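import Cfsg.Agent.H567.EP.Wd

/-!
# S3499, orthogonal groups: nondegenerate subspaces, at least three scalars (helper567)
-/

set_option autoImplicit false
set_option linter.unusedSectionVars false

namespace Cfsg.Agent.H567.EP

open QuadraticMap Cfsg.Agent.LieClassical.OrthCore Cfsg.Agent.LieClassical.OrthTrans
  Cfsg.Agent.LieClassical.OrthFinite Cfsg.Agent.H883.Sub Cfsg.Agent.H284

variable {F V : Type*} [Field F] [AddCommGroup V] [Module F V] [FiniteDimensional F V] {Q : QuadraticForm F V}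

theorem refl_of_perp {v : V} (hv : Q v ≠ 0) {x : V} (h : polar Q v x = 0) : refl Q v hv x = x := by
  rw [refl_apply, h, mul_zero, zero_smul, sub_zero]

/-- an element of the split torus -/
theorem exists_torus [Finite F] (hG : Good Q) {U : Submodule F V} (hU : NondegOn Q U)
    (hd : 4 ≤ Module.finrank F U) {u u' : V} (hu : u ∈ U) (hu' : u' ∈ U) (h : Hyp Q u u')
    (h3 : ∃ a : F, a ≠ 0 ∧ a ≠ 1) :
    ∃ t ∈ E Q, ∃ l : F, l ≠ 1 ∧ t u = l • u ∧ ∀ v ∈ perp Q U, t v = v := by
  have hvU : ∀ v ∈ perp Q U, ∀ w ∈ U, polar Q w v = 0 := fun v hv w hw => mem_perp.1 hv w hw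
  by_cases h2 : (2 : F) = 0
  · obtain ⟨a, ha0, ha1⟩ := h3
    have hchar : CharP F 2 := CharTwo.of_one_ne_zero_of_two_eq_zero one_ne_zero h2
    obtain ⟨c, hc⟩ : ∃ c : F, c * c * a = 1 := by
      have : IsSquare (a⁻¹) := FiniteField.isSquare_of_char_two (ringChar.eq F 2) _
      obtain ⟨c, hc⟩ := this
      exact ⟨c, by rw [← hc, inv_mul_cancel₀ ha0]⟩
    have hneg : ∀ v : V, -v = v := by
      intro v
      have : (2 : F) • v = 0 := by rw [h2, zero_smul]
      rw [two_smul] at this
      exact neg_eq_of_add_eq_zero_left this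
    have hQ1 : Q (u + u') = 1 := by rw [Q_add, h.left, h.right, h.pair]; ring
    have hQ2 : Q (c • (u + a • u')) = 1 := by
      rw [QuadraticMap.map_smul, Q_add, QuadraticMap.map_smul, h.left, h.right, polar_smul_right, h.pair]
      simp only [smul_eq_mul]
      linear_combination hc
    have h1 : Q (u + u') ≠ 0 := by rw [hQ1]; exact one_ne_zero
    have h1' : Q (c • (u + a • u')) ≠ 0 := by rw [hQ2]; exact one_ne_zero
    refine ⟨refl Q (u + u') h1 * refl Q (c • (u + a • u')) h1', hG.refl_mul_refl_mem h1' h1 (by rw [hQ1, hQ2]),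
      a, ha1, ?_, ?_⟩
    · show refl Q (u + u') h1 (refl Q (c • (u + a • u')) h1' u) = a • u
      have e1 : refl Q (c • (u + a • u')) h1' u = -(a • u') := by
        rw [refl_apply, hQ2, polar_smul_left, polar_add_left, polar_smul_left, h.polar_left, h.pair']
        simp only [smul_eq_mul, inv_one, one_mul, zero_add, mul_one]
        rw [smul_smul]
        have e2 : c * a * c = 1 := by linear_combination hc
        rw [e2, one_smul]
        abel
      rw [e1, refl_apply, hQ1, polar_neg_right, polar_smul_right, polar_add_left, h.pair, h.polar_right]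
      simp only [smul_eq_mul, inv_one, one_mul, add_zero, mul_one]
      module
    · intro v hv
      show refl Q (u + u') h1 (refl Q (c • (u + a • u')) h1' v) = v
      have e1 : polar Q (c • (u + a • u')) v = 0 := by
        rw [polar_smul_left, polar_add_left, polar_smul_left, hvU v hv u hu, hvU v hv u' hu']
        simp
      rw [refl_of_perp h1' e1]
      exact refl_of_perp h1 (by rw [polar_add_left, hvU v hv u hu, hvU v hv u' hu', add_zero])
  · set Y := U ⊓ perp Q (Submodule.span F {u, u'}) with hYdef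
    have hY : NondegOn Q Y := nondegOn_compl hU hu hu' h
    have hYd : 2 ≤ Module.finrank F Y := by
      have h8 := finrank_inf_perp_span hG.nondeg U u u'
      rw [← hYdef] at h8
      omega
    obtain ⟨c, hcY, hQc⟩ := exists_val h2 hY hYd 1
    obtain ⟨d, hdY, hQd⟩ := exists_val h2 hY hYd (-1)
    obtain ⟨hcU, hcu, hcu'⟩ := mem_compl.1 hcY
    obtain ⟨hdU, hdu, hdu'⟩ := mem_compl.1 hdY
    have hQ1 : Q (u + u') = 1 := by rw [Q_add, h.left, h.right, h.pair]; ring
    have hQ2 : Q (u - u') = -1 := by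
      rw [sub_eq_add_neg, Q_add, QuadraticMap.map_neg, h.left, h.right, polar_neg_right, h.pair]; ring
    have n1 : Q (u + u') ≠ 0 := by rw [hQ1]; exact one_ne_zero
    have n2 : Q (u - u') ≠ 0 := by rw [hQ2]; exact neg_ne_zero.2 one_ne_zero
    have n3 : Q c ≠ 0 := by rw [hQc]; exact one_ne_zero
    have n4 : Q d ≠ 0 := by rw [hQd]; exact neg_ne_zero.2 one_ne_zero
    refine ⟨(refl Q (u + u') n1 * refl Q c n3) * (refl Q (u - u') n2 * refl Q d n4),
      (E Q).mul_mem (hG.refl_mul_refl_mem n3 n1 (by rw [hQ1, hQc])) (hG.refl_mul_refl_mem n4 n2 (by rw [hQ2, hQd])),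
      -1, ?_, ?_, ?_⟩
    · intro e
      apply h2
      linear_combination -e
    · show refl Q (u + u') n1 (refl Q c n3 (refl Q (u - u') n2 (refl Q d n4 u))) = (-1 : F) • u
      rw [refl_of_perp n4 (by rw [polar_comm]; exact hdu)]
      have e1 : refl Q (u - u') n2 u = u' := by
        rw [refl_apply, hQ2, polar_sub_left, h.polar_left, h.pair']
        have : ((-1 : F)⁻¹ * (0 - 1)) = 1 := by rw [inv_neg, inv_one]; ring
        rw [this, one_smul]
        abel
      rw [e1, refl_of_perp n3 (by rw [polar_comm]; exact hcu'), refl_apply, hQ1, polar_add_left, h.pair, h.polar_right]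
      simp only [inv_one, one_mul, add_zero]
      module
    · intro v hv
      show refl Q (u + u') n1 (refl Q c n3 (refl Q (u - u') n2 (refl Q d n4 v))) = v
      rw [refl_of_perp n4 (hvU v hv d hdU), refl_of_perp n2 (by
        rw [polar_sub_left, hvU v hv u hu, hvU v hv u' hu', sub_zero]), refl_of_perp n3 (hvU v hv c hcU),
        refl_of_perp n1 (by rw [polar_add_left, hvU v hv u hu, hvU v hv u' hu', add_zero])]

variable {T : Type*} [Group T] {A : Subgroup T} {Γ : Subgroup (MulAut T)} {π : E Q →* T}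

/-- **nondegenerate subspaces, `q ≥ 3`** -/
theorem case_nd [Finite F] (hG : Good Q) (h : EPT A Γ) (hπ : Function.Surjective π) {W : Submodule F V}
    (hS : IsStab π A W) (hW : NondegOn Q W) (hW0 : W ≠ ⊥) (hU : 4 ≤ Module.finrank F (perp Q W))
    (h3 : ∃ a : F, a ≠ 0 ∧ a ≠ 1) : False := by
  obtain ⟨b, hb, hb0⟩ := Submodule.exists_mem_ne_zero_of_ne_bot hW0
  obtain ⟨w1, hw1, hbw1⟩ := hW.exists_polar_eq hb hb0 1
  have hU' : NondegOn Q (perp Q W) := hW.perp hG.nondeg
  obtain ⟨u, huU, hu0, hu⟩ := exists_sing_mem (Q := Q) (perp Q W) (by omega)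
  obtain ⟨u', hu'U, hyp⟩ := exists_hyp_in hU' huU hu0 hu
  obtain ⟨t, ht, l, hl, htu, htW⟩ := exists_torus hG hU' hU huU hu'U hyp h3
  rw [perp_perp hG.nondeg] at htW
  have hub : polar Q u b = 0 := mem_perp'.1 huU b hb
  have hxw : ∀ w ∈ W, siegel Q u b hu hub w = w + (-(polar Q b w)) • u := by
    intro w hw
    rw [siegel_apply, mem_perp'.1 huU w hw]
    module
  have hxE : siegel Q u b hu hub ∈ E Q := siegel_mem_E hu hub
  have hmul : ∀ (c : F), c • u ∈ perp Q W := fun c => (perp Q W).smul_mem c huU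
  have hw1x : siegel Q u b hu hub w1 ∉ W := by
    intro e
    rw [hxw w1 hw1, hbw1] at e
    have e1 := nd_split hW e hw1 ((perp Q W).zero_mem) (hmul (-1)) (by rw [add_zero])
    have e2 := e1.2
    rw [neg_smul, one_smul] at e2
    exact hu0 (neg_eq_zero.1 e2.symm)
  have htx : ∀ w ∈ W, t (siegel Q u b hu hub w) = w + (-(l * polar Q b w)) • u := by
    intro w hw
    rw [hxw w hw, map_add, map_smul, htW w hw, htu]
    module
  have h1 := P1W h hπ hS hxE ht ⟨w1, hw1, hw1x⟩ (fun w hw => by rw [htW w hw]; exact hw) (by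
    intro g hg hgW hgx w hw
    obtain ⟨w', hw', e⟩ := hgx w hw
    refine ⟨w', hw', ?_⟩
    rw [hxw w hw, hxw w' hw', map_add, map_smul] at e
    have hgu : g u ∈ perp Q W := perp_stab (E_le_O hg) hgW u huU
    obtain ⟨e1, e2⟩ := nd_split hW (hgW w hw) hw' ((perp Q W).smul_mem _ hgu) (hmul _) e
    rw [htx w hw, htx w' hw', map_add, map_smul, e1]
    have e3 : (-(l * polar Q b w)) • g u = l • ((-polar Q b w) • g u) := by module
    rw [e3, e2]
    module) w1 hw1
  obtain ⟨w', hw', e⟩ := h1
  rw [htx w1 hw1, hxw w' hw'] at e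
  obtain ⟨e1, e2⟩ := nd_split hW hw1 hw' (hmul _) (hmul _) e
  rw [← e1, hbw1, mul_one] at e2
  have e3 : (1 - l) • u = 0 := by
    have : (1 - l) • u = (-l) • u - (-(1 : F)) • u := by module
    rw [this, e2, sub_self]
  rcases smul_eq_zero.1 e3 with e4 | e4
  · exact hl (sub_eq_zero.1 e4).symm
  · exact hu0 e4

end Cfsg.Agent.H567.EP
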