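import Cfsg.Agent.H567.EP.Red
import Cfsg.Agent.H925.OrthBasic
import Cfsg.Agent.H778.EP.OmAsm
import Cfsg.Agent.H371.EP.OmPointRow

/-!
# S3499, orthogonal groups: reducible stabilisers (helper567), the row [Om-RED]
-/

set_option autoImplicit false
set_option linter.unusedSectionVars false

namespace Cfsg.Agent.H567.EP

open QuadraticMap Cfsg.Agent.LieClassical.OrthCore Cfsg.Agent.LieClassical.OrthTrans
  Cfsg.Agent.LieClassical.OrthFinite Cfsg.Agent.H883.Sub Cfsg.Agent.H883.Bridge Cfsg.Agent.H284 Cfsg.Agent.H419.EP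
open scoped MatrixGroups Matrix

variable {ι : Type} [Fintype ι] [DecidableEq ι] {F : Type*} [Field F] [Finite F] {Q : QuadraticForm F (ι → F)}

/-- `E Q` inside `omegaGL Q` -/
noncomputable def toOm (hG : Good Q) : E Q →* Cfsg.Geo.omegaGL ⇑Q where
  toFun s := ⟨(glEquiv ι F).symm s, (mem_omegaGL_iff hG _).2 (by rw [MulEquiv.apply_symm_apply]; exact s.2)⟩
  map_one' := by
    apply Subtype.ext
    show (glEquiv ι F).symm ((1 : E Q) : (ι → F) ≃ₗ[F] (ι → F)) = 1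
    rw [Subgroup.coe_one, map_one]
  map_mul' s t := by
    apply Subtype.ext
    show (glEquiv ι F).symm ((s * t : E Q) : (ι → F) ≃ₗ[F] (ι → F)) = _
    rw [Subgroup.coe_mul, map_mul]
    rfl

theorem toOm_surj (hG : Good Q) : Function.Surjective (toOm hG) := by
  intro g
  refine ⟨⟨glEquiv ι F g, (mem_omegaGL_iff hG _).1 g.2⟩, ?_⟩
  apply Subtype.ext
  show (glEquiv ι F).symm (glEquiv ι F g) = g
  rw [MulEquiv.symm_apply_apply]

variable {T : Type*} [Group T] [Finite T] {A : Subgroup T} {Γ : Subgroup (MulAut T)}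

/-- **reducible stabilisers in `Ω`** -/
theorem om_red (h : EPT A Γ) {Qf : (ι → F) → F} (m : Model T (Cfsg.Geo.omegaGL Qf)) (h7 : 7 ≤ Fintype.card ι)
    (hQ : Cfsg.Geo.IsNondegenerateQuadraticForm Qf)
    (hpt : ∀ v : ι → F, Qf v ≠ 0 → (∀ g ∈ m.hat A, ∃ c : F, (g : Matrix ι ι F) *ᵥ v = c • v) → False)
    {W : Submodule F (ι → F)} (h0 : W ≠ ⊥) (h1 : W ≠ ⊤)
    (hW : ∀ g ∈ m.hat A, ∀ w ∈ W, (g : Matrix ι ι F) *ᵥ w ∈ W) : False := by
  obtain ⟨Q, rfl, hN⟩ := exists_quadraticForm hQ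
  have hG : Good Q := good_of_card hN (by omega)
  have hpre : ∀ g : (ι → F) ≃ₗ[F] (ι → F), g ∈ pre (m.π.comp (toOm hG)) A → (glEquiv ι F).symm g ∈ m.hat A := by
    intro g hg
    obtain ⟨hg1, hg2⟩ := mem_pre.1 hg
    exact (m.mem_hat_iff (toOm hG ⟨g, hg1⟩)).2 hg2
  have hap : ∀ (g : (ι → F) ≃ₗ[F] (ι → F)) (v : ι → F),
      (((glEquiv ι F).symm g : GL ι F) : Matrix ι ι F) *ᵥ v = g v := by
    intro g v
    rw [← glEquiv_apply, MulEquiv.apply_symm_apply]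
  refine red hG (by rw [Module.finrank_fintype_fun_eq_card]; exact h7) h (π := m.π.comp (toOm hG))
    (m.surj.comp (toOm_surj hG)) ?_ ?_ ?_ h0 h1 ?_
  · intro s hs
    have h2 : ((toOm hG s : Cfsg.Geo.omegaGL ⇑Q) : GL ι F) ∈ Cfsg.Geo.scalars ι F := (m.ker _).1 hs
    rw [Cfsg.Geo.mem_scalars_iff] at h2
    obtain ⟨c, hc⟩ := h2
    refine ⟨c, fun v => ?_⟩
    rw [← hap]
    have h3 : (((glEquiv ι F).symm (s : (ι → F) ≃ₗ[F] (ι → F)) : GL ι F) : Matrix ι ι F) = (c : F) • 1 := hc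
    rw [h3, Matrix.smul_mulVec, Matrix.one_mulVec]
  · intro X hX
    refine Cfsg.Agent.H925.omegaGL_irreducible hQ (by omega) X ?_
    intro g hg w hw
    have h2 := hX (glEquiv ι F g) ((mem_omegaGL_iff hG g).1 hg) w hw
    rwa [glEquiv_apply] at h2
  · intro v hv hg
    refine hpt v hv ?_
    intro g hg'
    have h2 : glEquiv ι F g ∈ pre (m.π.comp (toOm hG)) A := by
      obtain ⟨h3, h4⟩ := m.mem_hat.1 hg'
      refine mem_pre.2 ⟨(mem_omegaGL_iff hG g).1 h3, ?_⟩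
      have e : toOm hG ⟨glEquiv ι F g, (mem_omegaGL_iff hG g).1 h3⟩ = ⟨g, h3⟩ := by
        apply Subtype.ext
        show (glEquiv ι F).symm (glEquiv ι F g) = g
        rw [MulEquiv.symm_apply_apply]
      show m.π (toOm hG _) ∈ A
      rw [e]
      exact h4
    obtain ⟨c, hc⟩ := Submodule.mem_span_singleton.1 (hg _ h2)
    exact ⟨c, hc.symm⟩
  · intro g hg w hw
    rw [← hap]
    exact hW _ (hpre g hg) w hw

/-- **[Om-RED]** -/
theorem omRed : Cfsg.Agent.H778.EP.OmRed := by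
  intro hP _ Q _ _ hs A Γ h F _ _ ι _ _ Qf m h7 hQ hC
  rw [Cfsg.Geo.ActsIrreducibly] at hC
  push Not at hC
  obtain ⟨W, hW, h0, h1⟩ := hC
  have hW' : ∀ g ∈ m.hat A, ∀ w ∈ W, (g : Matrix ι ι F) *ᵥ w ∈ W := by
    intro g hg w hw
    have h2 := hW (g : Matrix ι ι F) ⟨g, hg, rfl⟩
    exact h2 ⟨w, hw, Matrix.toLin'_apply _ _⟩
  refine om_red h m h7 hQ ?_ h0 h1 hW'
  intro v hv hg
  refine hP hs h m h7 hQ ⟨v, hv, ?_⟩
  intro g hg'
  show glEquiv ι F g ∈ stab (Submodule.span F {v})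
  apply mem_stab_of_le
  intro w hw
  obtain ⟨c, rfl⟩ := Submodule.mem_span_singleton.1 hw
  obtain ⟨d, hd⟩ := hg g hg'
  rw [map_smul, glEquiv_apply, hd, smul_smul]
  exact Submodule.smul_mem _ _ (Submodule.mem_span_singleton_self v)

end Cfsg.Agent.H567.EP
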