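import Cfsg.Agent.H567.EP.Wd

/-!
# S3499, orthogonal groups: totally singular subspaces (helper567)
-/

set_option autoImplicit false
set_option linter.unusedSectionVars false

namespace Cfsg.Agent.H567.EP

open QuadraticMap Cfsg.Agent.LieClassical.OrthCore Cfsg.Agent.LieClassical.OrthTrans
  Cfsg.Agent.LieClassical.OrthFinite Cfsg.Agent.H883.Sub Cfsg.Agent.H284
  Cfsg.Agent.ClassicalGeometry.OrthAut1

variable {F V : Type*} [Field F] [AddCommGroup V] [Module F V] [FiniteDimensional F V] {Q : QuadraticForm F V}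

theorem sing_avoid [Finite F] (S T : Submodule F V)
    (h : Module.finrank F T + 3 ≤ Module.finrank F S) : ∃ w ∈ S, w ∉ T ∧ Q w = 0 := by
  obtain ⟨C, hC⟩ := Submodule.exists_isCompl (T.comap S.subtype)
  have h1 : Module.finrank F (T.comap S.subtype) ≤ Module.finrank F T := by
    have h2 : Module.finrank F (T.comap S.subtype) = Module.finrank F ((T.comap S.subtype).map S.subtype) :=
      (Submodule.finrank_map_subtype_eq S _).symm
    rw [h2]
    exact Submodule.finrank_mono (Submodule.map_comap_le _ _)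
  have h2 := Submodule.finrank_add_eq_of_isCompl hC
  have h3 : Module.finrank F (C.map S.subtype) = Module.finrank F C := Submodule.finrank_map_subtype_eq S C
  obtain ⟨w, hw, hw0, hQw⟩ := exists_sing_mem (Q := Q) (C.map S.subtype) (by omega)
  obtain ⟨c, hc, rfl⟩ := hw
  refine ⟨c, c.2, fun hcT => hw0 ?_, hQw⟩
  have h4 : c ∈ T.comap S.subtype ⊓ C := ⟨hcT, hc⟩
  rw [hC.inf_eq_bot, Submodule.mem_bot] at h4
  rw [h4]
  rfl

theorem exists_notMem {W B : Submodule F V} (h : Module.finrank F B < Module.finrank F W) : ∃ w ∈ W, w ∉ B := by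
  by_contra hcon
  push Not at hcon
  have := Submodule.finrank_mono (show W ≤ B from hcon)
  omega

theorem span_pair_le (a c : V) : Module.finrank F (Submodule.span F {a, c}) ≤ 2 := by
  classical
  have h := finrank_span_finset_le_card (R := F) ({a, c} : Finset V)
  rw [Finset.coe_insert, Finset.coe_singleton] at h
  exact h.trans Finset.card_le_two

variable {T : Type*} [Group T] {A : Subgroup T} {Γ : Subgroup (MulAut T)} {π : E Q →* T}

theorem ts_key [Finite F] [Finite T] (h : EPT A Γ) (hπ : Function.Surjective π)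
    (hk : ∀ s : E Q, π s = 1 → ∃ c : F, ∀ v, (s : V ≃ₗ[F] V) v = c • v) {W : Submodule F V} (hS : IsStab π A W)
    {z : E Q} (hz : z ∈ U Q W) {x : V ≃ₗ[F] V} (hx : x ∈ E Q) (hxW : ∃ w ∈ W, x w ∉ W)
    (hzx : ∀ w ∈ W, (z : V ≃ₗ[F] V) (x w) = x w) : ∃ c : F, ∀ v, (z : V ≃ₗ[F] V) v = c • v := by
  obtain ⟨p, hp⟩ := CharP.exists F
  have hp' : p.Prime := CharP.char_is_prime F p
  have := Fact.mk hp'
  refine T1W h hπ hk hS hp' (N := (U Q W).map (E Q).subtype) ?_ ?_ ((isPGroup_U p W).map _) ?_ hx hxW ⟨z, hz, rfl⟩ hzx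
  · rintro _ ⟨g, _, rfl⟩
    exact g.2
  · rintro _ ⟨g, hg, rfl⟩ w hw
    have := hg.1 w hw
    show (g : V ≃ₗ[F] V) w ∈ W
    rw [this]
    exact hw
  · rintro a ha haW _ ⟨k, hk', rfl⟩
    refine ⟨⟨a, ha⟩ * k * ⟨a, ha⟩⁻¹, ⟨?_, ?_⟩, rfl⟩
    · intro w hw
      show a ((k : V ≃ₗ[F] V) (a⁻¹ w)) = w
      rw [hk'.1 _ (inv_stab haW w hw)]
      exact LinearEquiv.apply_symm_apply a w
    · intro v hv
      have h1 : ∀ w ∈ W, polar Q w (a⁻¹ v) = 0 := by
        intro w hw
        have e1 : a (a⁻¹ v) = v := LinearEquiv.apply_symm_apply a v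
        have h2 := hv (a w) (haW w hw)
        rw [← e1, polar_map (E_le_O ha)] at h2
        exact h2
      have h2 := haW _ (hk'.2 _ h1)
      have e1 : a (a⁻¹ v) = v := LinearEquiv.apply_symm_apply a v
      rw [map_sub, e1] at h2
      exact h2

/-- **totally singular subspaces** -/
theorem case_ts [Finite F] [Finite T] (hG : Good Q) (hd : 7 ≤ Module.finrank F V) (h : EPT A Γ)
    (hπ : Function.Surjective π) (hk : ∀ s : E Q, π s = 1 → ∃ c : F, ∀ v, (s : V ≃ₗ[F] V) v = c • v)
    {W : Submodule F V} (hS : IsStab π A W) (hW0 : W ≠ ⊥) (hW : TS Q W) : False := by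
  have hfin := finrank_perp hG.nondeg W
  obtain ⟨w1, hw1, hw10⟩ := Submodule.exists_mem_ne_zero_of_ne_bot hW0
  have hQ1 := hW w1 hw1
  rcases Nat.lt_or_ge (Module.finrank F W) 3 with h3 | h3
  · obtain ⟨u, huP, huW, hu⟩ := sing_avoid (Q := Q) (perp Q W) W (by omega)
    have hu0 : u ≠ 0 := by
      rintro rfl
      exact huW W.zero_mem
    have hw1u : polar Q w1 u = 0 := mem_perp.1 huP w1 hw1
    obtain ⟨b, hub, hwb⟩ := exists_sep (x := w1) (z := u) hG.nondeg (by
      intro c e
      rcases eq_or_ne c 0 with rfl | hc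
      · rw [zero_smul] at e
        exact hw10 e
      · apply huW
        have : u = c⁻¹ • w1 := by rw [e, smul_smul, inv_mul_cancel₀ hc, one_smul]
        rw [this]
        exact W.smul_mem _ hw1)
    have hbw : polar Q b w1 = 1 := by rw [polar_comm]; exact hwb
    have hxw : ∀ w ∈ W, siegel Q u b hu hub w = w + (-(polar Q b w)) • u := by
      intro w hw
      rw [siegel_apply, mem_perp'.1 huP w hw]
      module
    have hxE : siegel Q u b hu hub ∈ E Q := siegel_mem_E hu hub
    have hzE : siegel Q w1 u hQ1 hw1u ∈ E Q := siegel_mem_E hQ1 hw1u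
    have hzW : ∀ w ∈ W, siegel Q w1 u hQ1 hw1u w = w := by
      intro w hw
      rw [siegel_apply, hW.polar hw1 hw, mem_perp'.1 huP w hw]
      module
    have hzu : siegel Q w1 u hQ1 hw1u u = u := by
      rw [siegel_apply, hw1u, polar_self_of_sing hu]
      module
    obtain ⟨c, hc⟩ := ts_key h hπ hk hS (z := ⟨siegel Q w1 u hQ1 hw1u, hzE⟩) (by
      refine ⟨hzW, ?_⟩
      intro v hv
      show siegel Q w1 u hQ1 hw1u v - v ∈ W
      rw [siegel_apply, hv w1 hw1]
      have : v + (0 : F) • u - polar Q u v • w1 - (Q u * 0) • w1 - v = -(polar Q u v) • w1 := by module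
      rw [this]
      exact W.smul_mem _ hw1) hxE ⟨w1, hw1, by
        rw [hxw w1 hw1, hbw]
        intro e
        apply huW
        have : u = w1 - (w1 + (-(1 : F)) • u) := by module
        rw [this]
        exact W.sub_mem hw1 e⟩ (by
      intro w hw
      show siegel Q w1 u hQ1 hw1u (siegel Q u b hu hub w) = _
      rw [hxw w hw, map_add, map_smul, hzW w hw, hzu])
    have h1 : w1 = c • w1 := by
      have := hc w1
      rwa [show ((⟨siegel Q w1 u hQ1 hw1u, hzE⟩ : E Q) : V ≃ₗ[F] V) w1 = w1 from hzW w1 hw1] at this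
    have h2 : b + u = c • b := by
      have := hc b
      have e : ((⟨siegel Q w1 u hQ1 hw1u, hzE⟩ : E Q) : V ≃ₗ[F] V) b = b + u := by
        show siegel Q w1 u hQ1 hw1u b = _
        rw [siegel_apply, hwb, hub, hu]
        module
      rwa [e] at this
    have hc1 : c = 1 := by
      have : (c - 1) • w1 = 0 := by rw [sub_smul, one_smul, ← h1, sub_self]
      rcases smul_eq_zero.1 this with h4 | h4
      · exact sub_eq_zero.1 h4
      · exact absurd h4 hw10
    rw [hc1, one_smul] at h2
    exact hu0 (add_eq_left.1 h2)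
  · obtain ⟨w2, hw2, hw2n⟩ := exists_notMem (W := W) (B := Submodule.span F {w1}) (by
      rw [finrank_span_singleton hw10]; omega)
    obtain ⟨w3, hw3, hw3n⟩ := exists_notMem (W := W) (B := Submodule.span F {w1, w2}) (by
      have := span_pair_le (F := F) w1 w2
      omega)
    have hw20 : w2 ≠ 0 := by
      rintro rfl
      exact hw2n (Submodule.zero_mem _)
    -- the dual vector of `w3`
    obtain ⟨y, hy, hy3⟩ : ∃ y ∈ perp Q (Submodule.span F {w1, w2}), polar Q y w3 ≠ 0 := by
      by_contra hcon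
      push Not at hcon
      apply hw3n
      rw [← perp_perp hG.nondeg (Submodule.span F {w1, w2}), mem_perp]
      exact hcon
    have hy12 : polar Q w1 y = 0 ∧ polar Q w2 y = 0 :=
      ⟨mem_perp.1 hy w1 (Submodule.subset_span (by simp)), mem_perp.1 hy w2 (Submodule.subset_span (by simp))⟩
    obtain ⟨f, hf1, hf2, hf3, hQf⟩ : ∃ f, polar Q w1 f = 0 ∧ polar Q w2 f = 0 ∧ polar Q w3 f = 1 ∧ Q f = 0 := by
      obtain ⟨y', e1, e2, e3⟩ : ∃ y', polar Q w1 y' = 0 ∧ polar Q w2 y' = 0 ∧ polar Q w3 y' = 1 := by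
        refine ⟨(polar Q y w3)⁻¹ • y, ?_, ?_, ?_⟩
        · rw [polar_smul_right, hy12.1, smul_zero]
        · rw [polar_smul_right, hy12.2, smul_zero]
        · rw [polar_smul_right, polar_comm Q w3 y, smul_eq_mul, inv_mul_cancel₀ hy3]
      have e4 : polar Q y' w3 = 1 := by rw [polar_comm]; exact e3
      refine ⟨y' + (-(Q y')) • w3, ?_, ?_, ?_, ?_⟩
      · rw [polar_add_right, polar_smul_right, e1, hW.polar hw1 hw3, smul_zero, add_zero]
      · rw [polar_add_right, polar_smul_right, e2, hW.polar hw2 hw3, smul_zero, add_zero]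
      · rw [polar_add_right, polar_smul_right, e3, hW.polar hw3 hw3, smul_zero, add_zero]
      · rw [Q_add, QuadraticMap.map_smul, hW w3 hw3, polar_smul_right, e4, smul_zero, smul_eq_mul]
        ring
    have hf3' : polar Q f w3 = 1 := by rw [polar_comm]; exact hf3
    -- the vector `b`
    obtain ⟨b, hb1, hb2, hb3, hbf, hbW⟩ : ∃ b, polar Q w1 b = 0 ∧ polar Q w2 b = 0 ∧ polar Q w3 b = 0 ∧
        polar Q f b = 0 ∧ b ∉ W := by
      by_contra hcon
      push Not at hcon
      set P := perp Q (Submodule.span F {w1, w2}) ⊓ perp Q (Submodule.span F {w3, f}) with hP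
      have d1 := finrank_perp hG.nondeg (Submodule.span F {w1, w2})
      have d2 := span_pair_le (F := F) w1 w2
      have d3 := finrank_inf_perp_span hG.nondeg (perp Q (Submodule.span F {w1, w2})) w3 f
      rw [← hP] at d3
      have hmem : ∀ v ∈ P, v ∈ W ∧ polar Q f v = 0 := by
        intro v hv
        obtain ⟨hv1, hv3, hv4⟩ := mem_compl.1 hv
        have e1 := mem_perp.1 hv1 w1 (Submodule.subset_span (by simp))
        have e2 := mem_perp.1 hv1 w2 (Submodule.subset_span (by simp))
        exact ⟨hcon v e1 e2 hv3 hv4, hv4⟩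
      have d4 : Module.finrank F P < Module.finrank F W := by
        apply Submodule.finrank_lt_finrank_of_lt
        refine lt_of_le_of_ne (fun v hv => (hmem v hv).1) ?_
        intro e
        rw [← e] at hw3
        have := (hmem w3 hw3).2
        rw [hf3'] at this
        exact one_ne_zero this
      have d5 : Module.finrank F W ≤ Module.finrank F (perp Q W) := by
        apply Submodule.finrank_mono
        intro w hw
        exact mem_perp.2 fun w' hw' => hW.polar hw' hw
      omega
    have hb3' : polar Q b w3 = 0 := by rw [polar_comm]; exact hb3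
    have h12 : polar Q w1 w2 = 0 := hW.polar hw1 hw2
    have hxE : siegel Q f b hQf hbf ∈ E Q := siegel_mem_E hQf hbf
    have hzE : siegel Q w1 w2 hQ1 h12 ∈ E Q := siegel_mem_E hQ1 h12
    have hzfix : ∀ v, polar Q w1 v = 0 → polar Q w2 v = 0 → siegel Q w1 w2 hQ1 h12 v = v := by
      intro v e1 e2
      rw [siegel_apply, e1, e2]
      module
    obtain ⟨y1, hy1, hy2⟩ := exists_sep (x := w1) (z := w2) hG.nondeg (by
      intro c e
      rcases eq_or_ne c 0 with rfl | hc
      · rw [zero_smul] at e
        exact hw10 e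
      · apply hw2n
        have : w2 = c⁻¹ • w1 := by rw [e, smul_smul, inv_mul_cancel₀ hc, one_smul]
        rw [this]
        exact Submodule.smul_mem _ _ (Submodule.mem_span_singleton_self w1))
    obtain ⟨c, hc⟩ := ts_key h hπ hk hS (z := ⟨siegel Q w1 w2 hQ1 h12, hzE⟩) (by
      refine ⟨fun w hw => hzfix w (hW.polar hw1 hw) (hW.polar hw2 hw), ?_⟩
      intro v hv
      show siegel Q w1 w2 hQ1 h12 v - v ∈ W
      rw [hzfix v (hv w1 hw1) (hv w2 hw2), sub_self]
      exact W.zero_mem) hxE ⟨w3, hw3, by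
        rw [siegel_apply, hf3', hb3']
        intro e
        have e1 : w3 + (1 : F) • b - (0 : F) • f - (Q b * 1) • f = w3 + b + (-(Q b)) • f := by module
        rw [e1] at e
        have e2 := hW.polar hw3 e
        rw [polar_add_right, polar_add_right, polar_smul_right, hW.polar hw3 hw3, hb3, hf3, smul_eq_mul] at e2
        have e3 : Q b = 0 := by linear_combination -e2
        rw [e3, neg_zero, zero_smul, add_zero] at e
        apply hbW
        have : b = (w3 + b) - w3 := by abel
        rw [this]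
        exact W.sub_mem e hw3⟩ (by
      intro w hw
      apply hzfix
      · rw [siegel_apply]
        simp only [polar_add_right, polar_sub_right, polar_smul_right, hW.polar hw1 hw, hb1, hf1, smul_zero, add_zero,
          sub_zero]
      · rw [siegel_apply]
        simp only [polar_add_right, polar_sub_right, polar_smul_right, hW.polar hw2 hw, hb2, hf2, smul_zero, add_zero,
          sub_zero])
    have h1 : w1 = c • w1 := by
      have := hc w1
      rwa [show ((⟨siegel Q w1 w2 hQ1 h12, hzE⟩ : E Q) : V ≃ₗ[F] V) w1 = w1 from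
        hzfix w1 (hW.polar hw1 hw1) (hW.polar hw2 hw1)] at this
    have h2 : y1 + w2 = c • y1 := by
      have := hc y1
      have e : ((⟨siegel Q w1 w2 hQ1 h12, hzE⟩ : E Q) : V ≃ₗ[F] V) y1 = y1 + w2 := by
        show siegel Q w1 w2 hQ1 h12 y1 = _
        rw [siegel_apply, hy2, hy1, hW w2 hw2]
        module
      rwa [e] at this
    have hc1 : c = 1 := by
      have : (c - 1) • w1 = 0 := by rw [sub_smul, one_smul, ← h1, sub_self]
      rcases smul_eq_zero.1 this with h4 | h4
      · exact sub_eq_zero.1 h4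
      · exact absurd h4 hw10
    rw [hc1, one_smul] at h2
    exact hw20 (add_eq_left.1 h2)

end Cfsg.Agent.H567.EP
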