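import Cfsg.Agent.H567.EP.Two
import Cfsg.Agent.H567.EP.Ts

/-!
# S3499, orthogonal groups: reducible subgroups, the reduction (helper567)
-/

set_option autoImplicit false
set_option linter.unusedSectionVars false

namespace Cfsg.Agent.H567.EP

open QuadraticMap Cfsg.Agent.LieClassical.OrthCore Cfsg.Agent.LieClassical.OrthTrans
  Cfsg.Agent.LieClassical.OrthFinite Cfsg.Agent.H883.Sub Cfsg.Agent.H284
  Cfsg.Agent.ClassicalGeometry.OrthAut1

variable {F V : Type*} [Field F] [AddCommGroup V] [Module F V] [FiniteDimensional F V] {Q : QuadraticForm F V}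

variable {T : Type*} [Group T] {A : Subgroup T} {Γ : Subgroup (MulAut T)} {π : E Q →* T}

theorem isStab_of (h : EPT A Γ) (hπ : Function.Surjective π)
    (hirr : ∀ W : Submodule F V, (∀ g ∈ E Q, ∀ w ∈ W, g w ∈ W) → W = ⊥ ∨ W = ⊤)
    {W : Submodule F V} (h0 : W ≠ ⊥) (h1 : W ≠ ⊤) (hW : ∀ g ∈ pre π A, ∀ w ∈ W, g w ∈ W) : IsStab π A W := by
  rcases pre_max hπ h.max (L := Cfsg.Agent.H883.Bridge.stab W ⊓ E Q) (by
    intro g hg
    exact ⟨Cfsg.Agent.H883.Bridge.mem_stab_of_le (hW g hg), pre_le hg⟩) inf_le_right with h2 | h2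
  · intro g hg
    constructor
    · exact hW g
    · intro h3
      exact h2 ⟨Cfsg.Agent.H883.Bridge.mem_stab_of_le h3, hg⟩
  · exfalso
    rcases hirr W (fun g hg w hw => ((h2 hg).1 w).1 hw) with h3 | h3
    · exact h0 h3
    · exact h1 h3

/-- nondegenerate subspaces -/
theorem nd_final [Finite F] [Finite T] (hG : Good Q) (h : EPT A Γ) (hπ : Function.Surjective π)
    (hk : ∀ s : E Q, π s = 1 → ∃ c : F, ∀ v, (s : V ≃ₗ[F] V) v = c • v) {W : Submodule F V}
    (hS : IsStab π A W) (hW : NondegOn Q W) (hW0 : W ≠ ⊥) (hU : 4 ≤ Module.finrank F (perp Q W)) : False := by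
  by_cases h3 : ∃ a : F, a ≠ 0 ∧ a ≠ 1
  · exact case_nd hG h hπ hS hW hW0 hU h3
  push Not at h3
  have hF : ∀ a : F, a = 0 ∨ a = 1 := by
    intro a
    by_cases ha : a = 0
    · exact Or.inl ha
    · exact Or.inr (h3 a ha)
  have h2 : (2 : F) = 0 := by
    rcases hF 2 with h4 | h4
    · exact h4
    · exfalso
      have : (1 : F) = 0 := by linear_combination h4
      exact one_ne_zero this
  have hR : NondegOn Q (perp Q W) := hW.perp hG.nondeg
  obtain ⟨e, he, he0, hQe⟩ := exists_sing_mem (Q := Q) (perp Q W) (by omega)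
  obtain ⟨f, hf, hef⟩ := exists_hyp_in hR he he0 hQe
  obtain ⟨d, hd, hQd⟩ := exists_nonsing_in (nondegOn_compl hR he hf hef) (by
    intro e1
    have h8 := finrank_inf_perp_span hG.nondeg (perp Q W) e f
    rw [e1, finrank_bot] at h8
    omega)
  obtain ⟨hdR, hed, hfd⟩ := mem_compl.1 hd
  by_cases hs : ∃ u ∈ W, u ≠ 0 ∧ Q u = 0
  · obtain ⟨b, hb, hb0, hQb⟩ := hs
    obtain ⟨c, hc, hbc⟩ := exists_hyp_in hW hb hb0 hQb
    rw [← perp_perp hG.nondeg W] at hb hc
    exact case_two hG h hπ (hS.perp hG.nondeg) hR hF h2 he hf hef hdR hed hfd hQd hb hc hbc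
  · push Not at hs
    have hself : ∀ v : V, polar Q v v = 0 := fun v => by rw [polar_self', h2, zero_mul]
    have hne : ∀ v : V, -v = v := by
      intro v
      have : (2 : F) • v = 0 := by rw [h2, zero_smul]
      rw [two_smul] at this
      exact neg_eq_of_add_eq_zero_left this
    have hval : ∀ w ∈ W, w ≠ 0 → Q w = 1 := fun w hw h0 => (hF _).resolve_left (hs w hw h0)
    obtain ⟨b, hb, hb0⟩ := Submodule.exists_mem_ne_zero_of_ne_bot hW0
    obtain ⟨c, hc, hbc⟩ := hW.exists_polar_eq hb hb0 1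
    have hcb : polar Q c b = 1 := by rw [polar_comm]; exact hbc
    have hc0 : c ≠ 0 := by
      rintro rfl
      rw [polar_zero_right] at hbc
      exact zero_ne_one hbc
    have hspan : ∀ w ∈ W, ∃ α β : F, w = α • b + β • c := by
      intro w hw
      refine ⟨polar Q c w, polar Q b w, ?_⟩
      set w' := w - (polar Q c w • b + polar Q b w • c) with hw'
      have hw'W : w' ∈ W := W.sub_mem hw (W.add_mem (W.smul_mem _ hb) (W.smul_mem _ hc))
      have e1 : polar Q b w' = 0 := by
        rw [hw', polar_sub_right, polar_add_right, polar_smul_right, polar_smul_right, hself, hbc]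
        simp
      have e2 : polar Q c w' = 0 := by
        rw [hw', polar_sub_right, polar_add_right, polar_smul_right, polar_smul_right, hself, hcb]
        simp
      clear_value w'
      by_contra hcon
      have h0 : w' ≠ 0 := by
        intro e3
        apply hcon
        rw [e3] at hw'
        exact sub_eq_zero.1 hw'.symm
      have e4 : Q (b + w') = 0 := by
        rw [Q_add, hval b hb hb0, hval w' hw'W h0, e1]
        linear_combination h2
      have e5 : b + w' = 0 := by
        by_contra h6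
        exact hs _ (W.add_mem hb hw'W) h6 e4
      have e6 : w' = b := by
        have : w' = -b := eq_neg_of_add_eq_zero_right e5
        rw [this, hne]
      rw [e6, hcb] at e2
      exact one_ne_zero e2
    have hQd1 : Q d = 1 := (hF _).resolve_left hQd
    refine case_plane hG h hπ hk hS hW hF h2 hb hc hspan (hval b hb hb0) (hval c hc hc0) hbc
      (b' := e + f) (c' := e + d) ((perp Q W).add_mem he hf) ((perp Q W).add_mem he hdR) ?_ ?_ ?_
    · rw [Q_add, hef.left, hef.right, hef.pair]; ring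
    · rw [Q_add, hef.left, hQd1, hed]; ring
    · rw [polar_add_left, polar_add_right, polar_add_right, hself, hed, hfd, hef.pair']; ring

/-- **the reduction** -/
theorem red [Finite F] [Finite T] (hG : Good Q) (hd : 7 ≤ Module.finrank F V) (h : EPT A Γ)
    (hπ : Function.Surjective π) (hk : ∀ s : E Q, π s = 1 → ∃ c : F, ∀ v, (s : V ≃ₗ[F] V) v = c • v)
    (hirr : ∀ W : Submodule F V, (∀ g ∈ E Q, ∀ w ∈ W, g w ∈ W) → W = ⊥ ∨ W = ⊤)
    (hpt : ∀ v, Q v ≠ 0 → (∀ g ∈ pre π A, g v ∈ Submodule.span F {v}) → False)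
    {W₀ : Submodule F V} (h0 : W₀ ≠ ⊥) (h1 : W₀ ≠ ⊤) (hW₀ : ∀ g ∈ pre π A, ∀ w ∈ W₀, g w ∈ W₀) : False := by
  have wf : WellFounded ((· < ·) : Submodule F V → Submodule F V → Prop) := wellFounded_lt
  obtain ⟨W, ⟨hW0, hW1, hW⟩, hmin⟩ := wf.has_min
    {W : Submodule F V | W ≠ ⊥ ∧ W ≠ ⊤ ∧ ∀ g ∈ pre π A, ∀ w ∈ W, g w ∈ W} ⟨W₀, h0, h1, hW₀⟩
  have hmin' : ∀ X : Submodule F V, X ≤ W → (∀ g ∈ pre π A, ∀ w ∈ X, g w ∈ X) → X = ⊥ ∨ X = W := by
    intro X hX hXi
    by_contra hcon
    push Not at hcon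
    refine hmin X ⟨hcon.1, ?_, hXi⟩ (lt_of_le_of_ne hX hcon.2)
    rintro rfl
    exact hW1 (top_le_iff.1 hX)
  have hS := isStab_of h hπ hirr hW0 hW1 hW
  have hfin := finrank_perp hG.nondeg W
  rcases hmin' (W ⊓ perp Q W) inf_le_left (by
    intro g hg w hw
    exact ⟨hW g hg w hw.1, perp_stab (E_le_O (pre_le hg)) (hW g hg) w hw.2⟩) with h2 | h2
  · have hnd : NondegOn Q W := by
      intro y hy hy'
      have : y ∈ W ⊓ perp Q W := ⟨hy, mem_perp'.2 hy'⟩
      rw [h2, Submodule.mem_bot] at this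
      exact this
    rcases Nat.lt_or_ge (Module.finrank F (perp Q W)) 4 with h3 | h3
    · refine nd_final hG h hπ hk (hS.perp hG.nondeg) (hnd.perp hG.nondeg) ?_ ?_
      · intro e
        rw [e, finrank_bot, add_zero] at hfin
        exact hW1 (Submodule.eq_top_of_finrank_eq hfin)
      · rw [perp_perp hG.nondeg]
        omega
    · exact nd_final hG h hπ hk hS hnd hW0 h3
  · have hti : ∀ w ∈ W, ∀ w' ∈ W, polar Q w w' = 0 := by
      intro w hw w' hw'
      have : w' ∈ W ⊓ perp Q W := by rw [h2]; exact hw'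
      exact mem_perp.1 this.2 w hw
    let W1 : Submodule F V :=
      { carrier := {w | w ∈ W ∧ Q w = 0}
        add_mem' := fun {a b} ha hb => ⟨W.add_mem ha.1 hb.1, by
          rw [Q_add, ha.2, hb.2, hti a ha.1 b hb.1]; simp⟩
        zero_mem' := ⟨W.zero_mem, QuadraticMap.map_zero Q⟩
        smul_mem' := fun c a ha => ⟨W.smul_mem c ha.1, by rw [QuadraticMap.map_smul, ha.2, smul_zero]⟩ }
    rcases hmin' W1 (fun w hw => hw.1) (by
      rintro g hg w ⟨hw, hQw⟩
      exact ⟨hW g hg w hw, by rw [mem_O.1 (E_le_O (pre_le hg))]; exact hQw⟩) with h3 | h3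
    · obtain ⟨v, hv, hv0⟩ := Submodule.exists_mem_ne_zero_of_ne_bot hW0
      have hns : ∀ w ∈ W, Q w = 0 → w = 0 := by
        intro w hw hQw
        have : w ∈ W1 := ⟨hw, hQw⟩
        rw [h3, Submodule.mem_bot] at this
        exact this
      have hQv : Q v ≠ 0 := fun e => hv0 (hns v hv e)
      have hc2 : (2 : F) = 0 := by
        have := hti v hv v hv
        rw [polar_self'] at this
        exact (mul_eq_zero.1 this).resolve_right hQv
      have hchar : CharP F 2 := CharTwo.of_one_ne_zero_of_two_eq_zero one_ne_zero hc2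
      refine hpt v hQv ?_
      intro g hg
      have hgv := hW g hg v hv
      obtain ⟨s, hs⟩ : IsSquare (Q (g v) * (Q v)⁻¹) := FiniteField.isSquare_of_char_two (ringChar.eq F 2) _
      have e1 : Q (g v) = s * s * Q v := by rw [← hs, mul_assoc, inv_mul_cancel₀ hQv, mul_one]
      have e2 : Q (g v + s • v) = 0 := by
        rw [Q_add, QuadraticMap.map_smul, polar_smul_right, hti _ hgv v hv, e1, smul_zero, smul_eq_mul]
        linear_combination (s * s * Q v) * hc2
      have e3 := hns _ (W.add_mem hgv (W.smul_mem s hv)) e2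
      have e4 : g v = (-s) • v := by rw [neg_smul]; exact eq_neg_of_add_eq_zero_left e3
      rw [e4]
      exact Submodule.smul_mem _ _ (Submodule.mem_span_singleton_self v)
    · refine case_ts hG hd h hπ hk hS hW0 ?_
      intro w hw
      have : w ∈ W1 := by rw [h3]; exact hw
      exact this.2

end Cfsg.Agent.H567.EP
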