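import Cfsg.Agent.H567.EP.Nd

/-!
# S3499, orthogonal groups: nondegenerate subspaces, two scalars (helper567)
-/

set_option autoImplicit false
set_option linter.unusedSectionVars false

namespace Cfsg.Agent.H567.EP

open QuadraticMap Cfsg.Agent.LieClassical.OrthCore Cfsg.Agent.LieClassical.OrthTrans
  Cfsg.Agent.LieClassical.OrthFinite Cfsg.Agent.H883.Sub Cfsg.Agent.H284

variable {F V : Type*} [Field F] [AddCommGroup V] [Module F V] [FiniteDimensional F V] {Q : QuadraticForm F V}

variable {T : Type*} [Group T] {A : Subgroup T} {Γ : Subgroup (MulAut T)} {π : E Q →* T}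

/-- **nondegenerate subspaces, `q = 2`, both contain a hyperbolic pair** -/
theorem case_two (hG : Good Q) (h : EPT A Γ) (hπ : Function.Surjective π) {R : Submodule F V}
    (hS : IsStab π A R) (hR : NondegOn Q R) (hF : ∀ a : F, a = 0 ∨ a = 1) (h2 : (2 : F) = 0) {e f d b c : V}
    (he : e ∈ R) (hf : f ∈ R) (hef : Hyp Q e f) (hd : d ∈ R) (hed : polar Q e d = 0) (hfd : polar Q f d = 0)
    (hQd : Q d ≠ 0) (hb : b ∈ perp Q R) (hc : c ∈ perp Q R) (hbc : Hyp Q b c) : False := by
  have hne : ∀ v : V, -v = v := by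
    intro v
    have : (2 : F) • v = 0 := by rw [h2, zero_smul]
    rw [two_smul] at this
    exact neg_eq_of_add_eq_zero_left this
  have hQd1 : Q d = 1 := (hF _).resolve_left hQd
  have hR' : ∀ w ∈ R, polar Q b w = 0 ∧ polar Q c w = 0 := fun w hw => ⟨mem_perp'.1 hb w hw, mem_perp'.1 hc w hw⟩
  have hbe := (hR' e he).1
  have hbf := (hR' f hf).1
  have hce := (hR' e he).2
  have hcf := (hR' f hf).2
  have heb : polar Q e b = 0 := by rw [polar_comm]; exact hbe
  have hfb : polar Q f b = 0 := by rw [polar_comm]; exact hbf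
  have hec : polar Q e c = 0 := by rw [polar_comm]; exact hce
  have hfc : polar Q f c = 0 := by rw [polar_comm]; exact hcf
  have hQ1 : Q (b + e + f) = 1 := by
    rw [Q_add, Q_add, hbc.left, hef.left, hef.right, hbe, polar_add_left, hbf, hef.pair]; ring
  have hQ2 : Q (b + c + f) = 1 := by
    rw [Q_add, Q_add, hbc.left, hbc.right, hef.right, hbc.pair, polar_add_left, hbf, hcf]; ring
  have hQ3 : Q (b + c) = 1 := by rw [Q_add, hbc.left, hbc.right, hbc.pair]; ring
  have n1 : Q (b + e + f) ≠ 0 := by rw [hQ1]; exact one_ne_zero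
  have n2 : Q (b + c + f) ≠ 0 := by rw [hQ2]; exact one_ne_zero
  have n3 : Q (b + c) ≠ 0 := by rw [hQ3]; exact one_ne_zero
  -- the two parts of `x w`
  set X : V → V := fun w => w + (polar Q e w + polar Q f w) • e + polar Q e w • f with hX
  have hXR : ∀ w ∈ R, X w ∈ R := fun w hw => R.add_mem (R.add_mem hw (R.smul_mem _ he)) (R.smul_mem _ hf)
  obtain ⟨x, hxE, hx⟩ : ∃ x ∈ E Q, ∀ w ∈ R, x w = X w + (polar Q e w • b + polar Q f w • c) := by
    refine ⟨refl Q (b + e + f) n1 * refl Q (b + c + f) n2, hG.refl_mul_refl_mem n2 n1 (by rw [hQ1, hQ2]), ?_⟩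
    intro w hw
    show refl Q (b + e + f) n1 (refl Q (b + c + f) n2 w) = _
    have e1 : polar Q (b + e + f) (b + c + f) = 0 := by
      simp only [polar_add_left, polar_add_right, hbc.polar_left, hbc.pair, hbf, heb, hec, hef.pair, hfb, hfc,
        hef.polar_right]
      linear_combination h2
    rw [refl_apply, refl_apply, hQ1, hQ2, polar_sub_right, polar_smul_right, e1]
    simp only [polar_add_left, (hR' w hw).1, (hR' w hw).2, inv_one, one_mul, zero_add, smul_zero, sub_zero, hX]
    have e2 : w - polar Q f w • (b + c + f) - (polar Q e w + polar Q f w) • (b + e + f) =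
        w + (polar Q e w + polar Q f w) • e + polar Q e w • f + (polar Q e w • b + polar Q f w • c) +
          (2 : F) • (-((polar Q e w + polar Q f w) • (b + e + f)) - polar Q f w • c) := by
      module
    rw [e2, h2, zero_smul, add_zero]
  -- the element `t`
  obtain ⟨t, htE, htb, htc, htw⟩ : ∃ t ∈ E Q, t b = c ∧ t c = b ∧ ∀ w ∈ R, t w ∈ R ∧ polar Q e (t w) = polar Q e w ∧
      polar Q f (t w) = polar Q f w ∧ t (X w) = X (t w) := by
    refine ⟨refl Q (b + c) n3 * refl Q d hQd, hG.refl_mul_refl_mem hQd n3 (by rw [hQd1, hQ3]), ?_, ?_, ?_⟩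
    · show refl Q (b + c) n3 (refl Q d hQd b) = c
      rw [refl_of_perp hQd (by rw [polar_comm]; exact (hR' d hd).1), refl_apply, hQ3, polar_add_left, hbc.polar_left,
        hbc.pair']
      have : b - ((1 : F)⁻¹ * (0 + 1)) • (b + c) = -c := by
        rw [inv_one, one_mul, zero_add, one_smul]; abel
      rw [this, hne]
    · show refl Q (b + c) n3 (refl Q d hQd c) = b
      rw [refl_of_perp hQd (by rw [polar_comm]; exact (hR' d hd).2), refl_apply, hQ3, polar_add_left, hbc.polar_right,
        hbc.pair]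
      have : c - ((1 : F)⁻¹ * (1 + 0)) • (b + c) = -b := by
        rw [inv_one, one_mul, add_zero, one_smul]; abel
      rw [this, hne]
    · have key : ∀ w ∈ R, (refl Q (b + c) n3 * refl Q d hQd) w = w - polar Q d w • d := by
        intro w hw
        show refl Q (b + c) n3 (refl Q d hQd w) = _
        have e1 : refl Q d hQd w = w - polar Q d w • d := by rw [refl_apply, hQd1, inv_one, one_mul]
        rw [e1]
        have e2 : w - polar Q d w • d ∈ R := R.sub_mem hw (R.smul_mem _ hd)
        exact refl_of_perp n3 (by rw [polar_add_left, (hR' _ e2).1, (hR' _ e2).2, add_zero])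
      intro w hw
      have hde : polar Q d e = 0 := by rw [polar_comm]; exact hed
      have hdf : polar Q d f = 0 := by rw [polar_comm]; exact hfd
      refine ⟨by rw [key w hw]; exact R.sub_mem hw (R.smul_mem _ hd), ?_, ?_, ?_⟩
      · rw [key w hw, polar_sub_right, polar_smul_right, hed, smul_zero, sub_zero]
      · rw [key w hw, polar_sub_right, polar_smul_right, hfd, smul_zero, sub_zero]
      · rw [key _ (hXR w hw), key w hw]
        simp only [hX, polar_add_right, polar_sub_right, polar_smul_right, hde, hdf, hed, hfd, smul_zero, add_zero,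
          sub_zero]
        module
  have hZ : ∀ w, polar Q e w • b + polar Q f w • c ∈ perp Q R :=
    fun w => (perp Q R).add_mem ((perp Q R).smul_mem _ hb) ((perp Q R).smul_mem _ hc)
  have hc0 : c ≠ 0 := hbc.right_ne
  have hX0 : ∀ w, X w = 0 → polar Q e w = 0 := by
    intro w hw
    have h1 := congrArg (fun v => polar Q f v) hw
    simp only [hX, polar_add_right, polar_smul_right, hef.pair', hef.polar_right, smul_eq_mul, mul_one, mul_zero,
      add_zero, polar_zero_right] at h1
    linear_combination h1 - polar Q f w * h2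
  have hxe : x e = c := by
    rw [hx e he]
    simp only [hX, hef.polar_left, hef.pair', zero_add, one_smul, zero_smul, add_zero]
    have : e + e + c = (2 : F) • e + c := by rw [two_smul]
    rw [this, h2, zero_smul, zero_add]
  have hxf : x f = e + b := by
    rw [hx f hf]
    simp only [hX, hef.polar_right, hef.pair, add_zero, one_smul, zero_smul]
    have : f + e + f + b = e + b + (2 : F) • f := by module
    rw [this, h2, zero_smul, add_zero]
  have hcR : c ∉ R := by
    intro e1
    exact hc0 (hR c e1 fun z hz => (hR' z hz).2)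
  have hlin : ∀ (g : V ≃ₗ[F] V) (y : V) (α β : F) (p q : V), g (y + (α • p + β • q)) = g y + (α • g p + β • g q) := by
    intro g y α β p q
    simp only [map_add, map_smul]
  have htx : ∀ w ∈ R, t (x w) = X (t w) + (polar Q e w • c + polar Q f w • b) := by
    intro w hw
    rw [hx w hw, hlin, htb, htc, (htw w hw).2.2.2]
  have h1 := P1W h hπ hS hxE htE ⟨e, he, by rw [hxe]; exact hcR⟩ (fun w hw => (htw w hw).1) (by
    intro g hg hgR hgx w hw
    have hgP := perp_stab (E_le_O hg) hgR
    have hgc : g c = c := by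
      obtain ⟨w', hw', e1⟩ := hgx e he
      rw [hxe, hx w' hw'] at e1
      obtain ⟨e2, e3⟩ := nd_split hR R.zero_mem (hXR w' hw') (hgP c hc) (hZ w') (by rw [zero_add]; exact e1)
      rw [hX0 w' e2.symm, zero_smul, zero_add] at e3
      rcases hF (polar Q f w') with e4 | e4
      · exfalso
        rw [e4, zero_smul] at e3
        exact hc0 (g.map_eq_zero_iff.1 e3)
      · rw [e4, one_smul] at e3
        exact e3
    have hgb : g b = b := by
      obtain ⟨w', hw', e1⟩ := hgx f hf
      rw [hxf, map_add, hx w' hw'] at e1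
      obtain ⟨-, e3⟩ := nd_split hR (hgR e he) (hXR w' hw') (hgP b hb) (hZ w') e1
      have e4 : polar Q e w' = 1 := by
        have e5 : polar Q (g b) (g c) = 1 := by rw [polar_map (E_le_O hg)]; exact hbc.pair
        rw [hgc, e3, polar_add_left, polar_smul_left, polar_smul_left, hbc.pair, hbc.polar_right, smul_eq_mul,
          mul_one, smul_zero, add_zero] at e5
        exact e5
      have e6 : Q (g b) = 0 := by rw [mem_O.1 (E_le_O hg)]; exact hbc.left
      rw [e3, e4, one_smul, Q_add, QuadraticMap.map_smul, hbc.left, hbc.right, polar_smul_right, hbc.pair, smul_zero,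
        zero_add, zero_add, smul_eq_mul, mul_one] at e6
      rw [e3, e4, e6, one_smul, zero_smul, add_zero]
    have htwR := (htw w hw).1
    obtain ⟨w1, hw1, e1⟩ := hgx (t w) htwR
    rw [hx _ htwR, hx w1 hw1, map_add] at e1
    obtain ⟨e2, e3⟩ := nd_split hR (hgR _ (hXR _ htwR)) (hXR w1 hw1) (hgP _ (hZ _)) (hZ w1) e1
    rw [map_add, map_smul, map_smul, hgb, hgc] at e3
    have e4 : polar Q e (t w) = polar Q e w1 := by
      have := congrArg (fun v => polar Q v c) e3
      simp only [polar_add_left, polar_smul_left, hbc.pair, hbc.polar_right, smul_eq_mul, mul_one, mul_zero,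
        add_zero] at this
      exact this
    have e5 : polar Q f (t w) = polar Q f w1 := by
      have := congrArg (fun v => polar Q v b) e3
      simp only [polar_add_left, polar_smul_left, hbc.pair', hbc.polar_left, smul_eq_mul, mul_one, mul_zero,
        zero_add] at this
      exact this
    -- the vector `t⁻¹ w1`
    have hw2 : t⁻¹ w1 ∈ R := inv_stab (fun w hw => (htw w hw).1) w1 hw1
    have ew : t (t⁻¹ w1) = w1 := LinearEquiv.apply_symm_apply t w1
    refine ⟨t⁻¹ w1, hw2, ?_⟩
    rw [htx w hw, htx _ hw2, ew, hlin, hgb, hgc, e2]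
    have e7 := (htw _ hw2).2.1
    have e8 := (htw _ hw2).2.2.1
    rw [ew] at e7 e8
    rw [← e7, ← e8, ← e4, ← e5, (htw w hw).2.1, (htw w hw).2.2.1]) e he
  obtain ⟨w', hw', e1⟩ := h1
  rw [hxe, htc, hx w' hw'] at e1
  obtain ⟨e2, e3⟩ := nd_split hR R.zero_mem (hXR w' hw') hb (hZ w') (by rw [zero_add]; exact e1)
  rw [hX0 w' e2.symm, zero_smul, zero_add] at e3
  have e4 := hbc.pair
  rw [e3, polar_smul_left, hbc.polar_right, smul_zero] at e4
  exact zero_ne_one e4

/-- **an anisotropic plane, `q = 2`** -/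
theorem case_plane [Finite T] (hG : Good Q) (h : EPT A Γ) (hπ : Function.Surjective π)
    (hk : ∀ s : E Q, π s = 1 → ∃ c : F, ∀ v, (s : V ≃ₗ[F] V) v = c • v) {W : Submodule F V}
    (hS : IsStab π A W) (hW : NondegOn Q W) (hF : ∀ a : F, a = 0 ∨ a = 1) (h2 : (2 : F) = 0) {b c b' c' : V}
    (hb : b ∈ W) (hc : c ∈ W) (hspan : ∀ w ∈ W, ∃ α β : F, w = α • b + β • c) (hQb : Q b = 1) (hQc : Q c = 1)
    (hbc : polar Q b c = 1) (hb' : b' ∈ perp Q W) (hc' : c' ∈ perp Q W) (hQb' : Q b' = 1) (hQc' : Q c' = 1)
    (hbc' : polar Q b' c' = 1) : False := by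
  have hne : ∀ v : V, -v = v := by
    intro v
    have : (2 : F) • v = 0 := by rw [h2, zero_smul]
    rw [two_smul] at this
    exact neg_eq_of_add_eq_zero_left this
  have hsub : ∀ v w : V, v - w = v + w := fun v w => by rw [sub_eq_add_neg, hne]
  have hdbl : ∀ v : V, v + v = 0 := fun v => by rw [← two_smul F, h2, zero_smul]
  have hself : ∀ v : V, polar Q v v = 0 := fun v => by rw [polar_self', h2, zero_mul]
  have hcb : polar Q c b = 1 := by rw [polar_comm]; exact hbc
  have nb : Q b ≠ 0 := by rw [hQb]; exact one_ne_zero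
  have nc : Q c ≠ 0 := by rw [hQc]; exact one_ne_zero
  have hQbc : Q (b + c) = 1 := by rw [Q_add, hQb, hQc, hbc]; linear_combination h2
  have nbc : Q (b + c) ≠ 0 := by rw [hQbc]; exact one_ne_zero
  have hbP : ∀ w ∈ W, polar Q b' w = 0 ∧ polar Q c' w = 0 := fun w hw => ⟨mem_perp'.1 hb' w hw, mem_perp'.1 hc' w hw⟩
  have hbb' := (hbP b hb).1
  have hbc'' := (hbP c hc).1
  have hcb' := (hbP b hb).2
  have hcc' := (hbP c hc).2
  have hQ1 : Q (b + b') = 0 := by rw [Q_add, hQb, hQb', polar_comm, hbb']; linear_combination h2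
  have hQ2 : Q (c + c') = 0 := by rw [Q_add, hQc, hQc', polar_comm, hcc']; linear_combination h2
  have hP : polar Q (b + b') (c + c') = 0 := by
    rw [polar_add_left, polar_add_right, polar_add_right, hbc, hbc', polar_comm Q b c', hcb', hbc'']
    linear_combination h2
  set z := refl Q b nb * refl Q c nc with hz
  have hzE : z ∈ E Q := hG.refl_mul_refl_mem nc nb (by rw [hQb, hQc])
  have hrb : ∀ v, refl Q b nb v = v + polar Q b v • b := fun v => by
    rw [refl_apply, hQb, inv_one, one_mul, hsub]
  have hrc : ∀ v, refl Q c nc v = v + polar Q c v • c := fun v => by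
    rw [refl_apply, hQc, inv_one, one_mul, hsub]
  have hzU : ∀ v ∈ perp Q W, z v = v := by
    intro v hv
    show refl Q b nb (refl Q c nc v) = v
    rw [refl_of_perp nc (mem_perp.1 hv c hc), refl_of_perp nb (mem_perp.1 hv b hb)]
  have hzb : z b = c := by
    show refl Q b nb (refl Q c nc b) = c
    rw [hrc, hrb, hcb, one_smul, polar_add_right, hself, hbc, zero_add, one_smul]
    have : b + c + b = c + (b + b) := by abel
    rw [this, hdbl, add_zero]
  have hzc : z c = b + c := by
    show refl Q b nb (refl Q c nc c) = b + c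
    rw [hrc, hrb, hself, zero_smul, add_zero, hbc, one_smul, add_comm]
  have hzbc : z (b + c) = b := by
    rw [map_add, hzb, hzc]
    have : c + (b + c) = b + (c + c) := by abel
    rw [this, hdbl, add_zero]
  have hz3 : z ^ 3 = 1 := by
    ext v
    obtain ⟨w, hw, w', hw', rfl⟩ := hW.exists_decomp v
    obtain ⟨α, β, rfl⟩ := hspan w hw
    show z (z (z (α • b + β • c + w'))) = α • b + β • c + w'
    have e1 : z (z (z b)) = b := by rw [hzb, hzc, hzbc]
    have e2 : z (z (z c)) = c := by rw [hzc, hzbc, hzb]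
    have e3 : z (z (z w')) = w' := by rw [hzU w' hw', hzU w' hw', hzU w' hw']
    have e4 : z (z (z (α • b + β • c + w'))) = α • z (z (z b)) + β • z (z (z c)) + z (z (z w')) := by
      simp only [LinearEquiv.map_add, LinearEquiv.map_smul]
    rw [e4, e1, e2, e3]
  have hbb : refl Q b nb * refl Q b nb = 1 := refl_mul_self nb
  have hccr : refl Q c nc * refl Q c nc = 1 := refl_mul_self nc
  have hrbc : refl Q (b + c) nbc = refl Q b nb * refl Q c nc * refl Q b nb := by
    have e1 : refl Q b nb c = b + c := by rw [hrb, hbc, one_smul, add_comm]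
    have n1 : Q (refl Q b nb c) ≠ 0 := by rw [e1]; exact nbc
    have e2 := refl_conj (refl_mem_O nb) nc n1
    rw [refl_inv] at e2
    rw [e2]
    congr 1
    exact e1.symm
  have hcong : ∀ {v w : V} (hv : Q v ≠ 0) (hw : Q w ≠ 0), v = w → refl Q v hv = refl Q w hw := by
    rintro v w hv hw rfl
    rfl
  have hzin : z⁻¹ = refl Q c nc * refl Q b nb := by
    rw [hz, mul_inv_rev, refl_inv, refl_inv]
  have hcases : ∀ w ∈ W, Q w = 1 → w = b ∨ w = c ∨ w = b + c := by
    intro w hw hQw
    obtain ⟨α, β, rfl⟩ := hspan w hw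
    rcases hF α with rfl | rfl <;> rcases hF β with rfl | rfl
    · exfalso
      rw [zero_smul, zero_smul, add_zero, QuadraticMap.map_zero] at hQw
      exact zero_ne_one hQw
    · right; left
      rw [zero_smul, one_smul, zero_add]
    · left
      rw [zero_smul, one_smul, add_zero]
    · right; right
      rw [one_smul, one_smul]
  have hbnec : b ≠ c := by
    intro e
    rw [e, hself] at hbc
    exact zero_ne_one hbc
  have hconj : ∀ a ∈ E Q, (∀ w ∈ W, a w ∈ W) → a * z * a⁻¹ ∈ Subgroup.zpowers z := by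
    intro a ha haW
    have haO := E_le_O ha
    have q1 : Q (a b) = 1 := by rw [mem_O.1 haO]; exact hQb
    have q2 : Q (a c) = 1 := by rw [mem_O.1 haO]; exact hQc
    have n1 : Q (a b) ≠ 0 := by rw [q1]; exact one_ne_zero
    have n2 : Q (a c) ≠ 0 := by rw [q2]; exact one_ne_zero
    have e1 : a * z * a⁻¹ = refl Q (a b) n1 * refl Q (a c) n2 := by
      rw [← refl_conj haO nb n1, ← refl_conj haO nc n2, hz]
      group
    rw [e1]
    have zin : z ∈ Subgroup.zpowers z := Subgroup.mem_zpowers z
    have zin' : z⁻¹ ∈ Subgroup.zpowers z := Subgroup.inv_mem _ zin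
    have hinj : a b ≠ a c := fun e => hbnec (a.injective e)
    rcases hcases _ (haW b hb) q1 with h1 | h1 | h1 <;> rcases hcases _ (haW c hc) q2 with h3 | h3 | h3
    · exact absurd (h1.trans h3.symm) hinj
    · rw [hcong n1 nb h1, hcong n2 nc h3]
      exact zin
    · rw [hcong n1 nb h1, hcong n2 nbc h3, hrbc]
      have : refl Q b nb * (refl Q b nb * refl Q c nc * refl Q b nb) = z⁻¹ := by
        rw [hzin, ← mul_assoc, ← mul_assoc, hbb, one_mul]
      rw [this]
      exact zin'
    · rw [hcong n1 nc h1, hcong n2 nb h3, ← hzin]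
      exact zin'
    · exact absurd (h1.trans h3.symm) hinj
    · rw [hcong n1 nc h1, hcong n2 nbc h3, hrbc]
      have : refl Q c nc * (refl Q b nb * refl Q c nc * refl Q b nb) = z⁻¹ * z⁻¹ := by
        rw [hzin]
        group
      rw [this]
      exact Subgroup.mul_mem _ zin' zin'
    · rw [hcong n1 nbc h1, hcong n2 nb h3, hrbc, mul_assoc, hbb, mul_one]
      exact zin
    · rw [hcong n1 nbc h1, hcong n2 nc h3, hrbc]
      have : refl Q b nb * refl Q c nc * refl Q b nb * refl Q c nc = z * z := by
        rw [hz]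
        group
      rw [this]
      exact Subgroup.mul_mem _ zin zin
    · exact absurd (h1.trans h3.symm) hinj
  have hzW : z ∈ Cfsg.Agent.H883.Bridge.stab W := by
    apply Cfsg.Agent.H883.Bridge.mem_stab_of_le
    intro w hw
    obtain ⟨α, β, rfl⟩ := hspan w hw
    rw [map_add, map_smul, map_smul, hzb, hzc]
    exact W.add_mem (W.smul_mem _ hc) (W.smul_mem _ (W.add_mem hb hc))
  have hxE : siegel Q (b + b') (c + c') hQ1 hP ∈ E Q := siegel_mem_E hQ1 hP
  have hxb : siegel Q (b + b') (c + c') hQ1 hP b = b' := by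
    rw [siegel_apply, hQ2, polar_add_left, polar_add_left, hself, hbb', hcb, hcb']
    simp only [add_zero, zero_smul, one_smul, zero_mul, sub_zero]
    rw [hsub]
    have : b + (b + b') = b' + (b + b) := by abel
    rw [this, hdbl, add_zero]
  have hxc : siegel Q (b + b') (c + c') hQ1 hP c = c' := by
    rw [siegel_apply, hQ2, polar_add_left, polar_add_left, hbc, hbc'', hself, hcc']
    simp only [add_zero, zero_smul, one_smul, zero_mul, sub_zero]
    have : c + (c + c') = c' + (c + c) := by abel
    rw [this, hdbl, add_zero]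
  have hbW : b' ∉ W := by
    intro e
    have := hW b' e fun w hw => (hbP w hw).1
    rw [this, QuadraticMap.map_zero] at hQb'
    exact zero_ne_one hQb'
  obtain ⟨k, hk1⟩ := T1W h hπ hk hS Nat.prime_three (N := Subgroup.zpowers z) (by
      rw [Subgroup.zpowers_le]; exact hzE) (by
      intro g hg w hw
      have h1 : Subgroup.zpowers z ≤ Cfsg.Agent.H883.Bridge.stab W := by
        rw [Subgroup.zpowers_le]; exact hzW
      exact (h1 hg w).1 hw) (by
      rintro ⟨_, k, rfl⟩
      refine ⟨1, Subtype.ext ?_⟩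
      show (z ^ k) ^ (3 ^ 1) = 1
      rw [pow_one, ← zpow_natCast, ← zpow_mul, mul_comm, zpow_mul, zpow_natCast, hz3, one_zpow]) (by
      rintro a ha haW _ ⟨k, rfl⟩
      show a * z ^ k * a⁻¹ ∈ _
      rw [← conj_zpow]
      exact Subgroup.zpow_mem _ (hconj a ha haW) k) hxE ⟨b, hb, by rw [hxb]; exact hbW⟩ (Subgroup.mem_zpowers z) (by
      intro w hw
      apply hzU
      obtain ⟨α, β, rfl⟩ := hspan w hw
      rw [map_add, map_smul, map_smul, hxb, hxc]
      exact (perp Q W).add_mem ((perp Q W).smul_mem _ hb') ((perp Q W).smul_mem _ hc'))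
  have h5 := hk1 b
  rw [hzb] at h5
  rw [h5, polar_smul_right, hself, smul_zero] at hbc
  exact zero_ne_one hbc

end Cfsg.Agent.H567.EP
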